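import Cfsg.Agent.H583.DPi.CentA
import Cfsg.Agent.H859.BigNum
import Cfsg.Agent.H153.ZerosSuz
import Cfsg.Agent.H680.ONThirtyOne
import Cfsg.Agent.H184.PD.RowsC

/-!
# S4247, sporadic rows: self-centralising elements of `J₁`, `J₄`, `Suz`, `ON` (helper314, for helper583)
-/

set_option autoImplicit false

namespace Cfsg.Agent.H314.DPi

open Subgroup Cfsg Cfsg.Agent.H583.DPi

universe u

variable {S : Type u} [Group S]

theorem c_j1 [Finite S] [IsSimpleGroup S] (h : Spor.IsoJ1 S) : HasC S 7 := by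
  have hc := NotCT.Orders.j1 h
  have hZ := Cfsg.Agent.H184.PD.center_bot' (K := S) (by rw [hc]; norm_num)
  have hna : ¬ ∀ a b : S, a * b = b * a := by
    intro hab
    have h1 : center S = ⊤ := by
      rw [eq_top_iff]
      intro a _
      rw [mem_center_iff]
      exact fun b => hab b a
    rw [hZ] at h1
    have h2 : Nat.card S = 1 := by rw [← Subgroup.card_top, ← h1, Subgroup.card_bot]
    omega
  obtain ⟨e⟩ := h
  have hfin : Finite Spor.J1 := Finite.of_equiv S e.toEquiv
  have c2 : ∀ t : S, orderOf t = 2 → Nat.card (centralizer ({t} : Set S)) = 120 := by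
    intro t ht
    rw [← Cfsg.Agent.H524.SporTool.card_centralizer_equiv e]
    exact SporRec.J1.EqTopC.card_cent2 H413.JOneLocal.isLocal _ (by rw [MulEquiv.orderOf_eq, ht])
  have c3 : ∀ t : S, orderOf t = 3 → Nat.card (centralizer ({t} : Set S)) = 30 := by
    intro t ht
    rw [← Cfsg.Agent.H524.SporTool.card_centralizer_equiv e]
    exact H413.JOneLocal.isLocal.cent3 _ (by rw [MulEquiv.orderOf_eq, ht])
  have c5 : ∀ t : S, orderOf t = 5 → Nat.card (centralizer ({t} : Set S)) = 30 := by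
    intro t ht
    rw [← Cfsg.Agent.H524.SporTool.card_centralizer_equiv e]
    exact H413.JOneLocal.isLocal.cent5 _ (by rw [MulEquiv.orderOf_eq, ht])
  exact HasC.of_all (by norm_num) (by rw [hc]; norm_num) fun x hx =>
    Cfsg.Agent.H524.SporTool.card_seven_j1 hna hc c2 c3 c5 hx

theorem c_j4 (h : Spor.IsoJ4 S) : HasC S 37 := by
  obtain ⟨e⟩ := h
  refine HasC.congr e.symm ?_
  have hc : Nat.card Spor.J4 = 86775571046077562880 := NotCT.Orders.j4 ⟨MulEquiv.refl _⟩
  have : Finite Spor.J4 := Nat.finite_of_card_ne_zero (by rw [hc]; norm_num)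
  exact HasC.of_zp (by norm_num) (by rw [hc]; norm_num) fun P hP => (H859.BigNum.data37 hP).1

theorem c_suz13 (h : Spor.IsoSuz S) : HasC S 13 := by
  obtain ⟨e⟩ := h
  refine HasC.congr e.symm ?_
  have hc : Nat.card Spor.Suz = 448345497600 := NotCT.Orders.suz ⟨MulEquiv.refl _⟩
  have : Finite Spor.Suz := Nat.finite_of_card_ne_zero (by rw [hc]; norm_num)
  exact HasC.of_all (by norm_num) (by rw [hc]; norm_num) fun x hx => Cfsg.Agent.H153.Zeros.card_cent_suz hx

theorem c_on (h : Spor.IsoON S) : HasC S 31 ∧ HasC S 11 ∧ HasC S 19 := by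
  obtain ⟨e⟩ := h
  have hc : Nat.card Spor.ON = 460815505920 := NotCT.Orders.on ⟨MulEquiv.refl _⟩
  have : Finite Spor.ON := Nat.finite_of_card_ne_zero (by rw [hc]; norm_num)
  refine ⟨HasC.congr e.symm ?_, HasC.congr e.symm ?_, HasC.congr e.symm ?_⟩
  · exact HasC.of_all (by norm_num) (by rw [hc]; norm_num) fun x hx => Cfsg.Agent.H680.ONThirtyOne.card_cent hx
  · exact HasC.of_all (by norm_num) (by rw [hc]; norm_num) fun x hx => Cfsg.Agent.H474.ONC.card_cent_eleven hx
  · exact HasC.of_all (by norm_num) (by rw [hc]; norm_num) fun x hx => Cfsg.Agent.H680.ONThirtyOne.card_cent_nineteen hx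

end Cfsg.Agent.H314.DPi
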